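import Groth.Agent.L03.ShStab.FinExtPoly
import Groth.Agent.L03.ShStab.Basic
import Groth.Agent.L03.ShStab.PolyOrd
import Groth.Agent.L18.AmplePull
import Groth.Agent.L21.TFNodal.Factor
import Groth.Agent.L15.TFCurve.BC.PullFlat
import Groth.Agent.L22.BM.NormIso
import Groth.Agent.L22.Norm.GeomRegularCodimOne
import Groth.Agent.L16.CohGab.Closed
import Groth.Agent.L21.TFNodal.Lattice
import Groth.Agent.L07.PrinParts.Mod

/-!
Stability along a finite birational map of integral curves.
-/

set_option autoImplicit false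
set_option backward.isDefEq.respectTransparency false
set_option backward.isDefEq.respectTransparency.types false
set_option linter.style.haveILetI false
set_option maxHeartbeats 800000
set_option synthInstance.maxHeartbeats 400000

universe u

open CategoryTheory CategoryTheory.Limits AlgebraicGeometry TopologicalSpace Polynomial StabCat

noncomputable section

namespace Groth.L21.PushStab

open Groth.L03.ShStab Groth.L03.ShStab.Basic

variable {X Y : Scheme.{u}}

theorem surjective_stalk_of_iso (π : Y ⟶ X) [IsFinite π] {U : X.Opens} [IsIso (π ∣_ U)]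
    {F : X.Modules} {G : Y.Modules} [Coh.IsQCoh G] (β : F ⟶ (Scheme.Modules.pushforward π).obj G)
    (hgen : Groth.L21.TFNodal.Generates β) {x : X} (hx : x ∈ U) :
    Function.Surjective ((Groth.L00.Stk.F X x).map β).hom := by
  obtain ⟨V, hV, hxV, hVU⟩ := exists_isAffineOpen_mem_and_subset (x := x) (U := U) hx
  haveI := Groth.L07.BlowLib.isIso_app_of_le π (C := U) inferInstance V hVU
  letI := Groth.L21.TFNodal.pushModule (π := π) G V
  have hsurj : Function.Surjective (β.app V) := by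
    intro z
    have hz : z ∈ Submodule.span Γ(Y, π ⁻¹ᵁ V) (Set.range (β.app V)) := (hgen V hV).symm ▸ Submodule.mem_top
    refine Submodule.closure_induction (p := fun z _ => ∃ s, β.app V s = z) ⟨0, map_zero _⟩
      (fun a b _ _ ⟨s, hs⟩ ⟨t, ht⟩ => ⟨s + t, by rw [map_add, hs, ht]⟩) ?_ hz
    rintro b _ ⟨s, rfl⟩
    obtain ⟨a, rfl⟩ := (ConcreteCategory.bijective_of_isIso (π.app V)).2 b
    exact ⟨a • s, β.app_smul a s⟩
  let P := (Scheme.Modules.pushforward π).obj G
  letI := Groth.L20.ModStalk.stalkModule P hxV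
  haveI := Groth.L20.ModStalk.isLocalizedModule_germ_push π G hV (hV.preimage π) hxV
  intro (z : P.presheaf.stalk x)
  obtain ⟨⟨y, t⟩, hyt⟩ := IsLocalizedModule.surj (hV.primeIdealOf ⟨x, hxV⟩).asIdeal.primeCompl
    (Groth.L20.ModStalk.germₗ P hxV) z
  obtain ⟨s, rfl⟩ := hsurj y
  letI := X.presheaf.algebra_section_stalk ⟨x, hxV⟩
  haveI := hV.isLocalization_stalk ⟨x, hxV⟩
  obtain ⟨v, hv⟩ := (IsLocalization.map_units (X.presheaf.stalk x) t).exists_left_inv
  refine ⟨v • F.presheaf.germ V x hxV s, ?_⟩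
  have h1 : ((Groth.L00.Stk.F X x).map β).hom (F.presheaf.germ V x hxV s) =
      (show P.presheaf.stalk x from (t : Γ(X, V)) • z) :=
    (Groth.L21.Mod.stalkF_map_germ β V x hxV s).trans hyt.symm
  rw [map_smul, h1]
  show v • (X.presheaf.germ V x hxV (t : Γ(X, V)) • z) = z
  rw [smul_smul]
  exact (congrArg (· • z) hv).trans (one_smul _ z)

theorem dim_univ_le {S : Set X} : topologicalKrullDim S ≤ topologicalKrullDim X :=
  Topology.IsEmbedding.subtypeVal.isInducing.topologicalKrullDim_le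

/-- Purity from the absence of submodules killed on a nonempty open. -/
theorem isPure_of_injective [IsIntegral X] [AlgebraicGeometry.IsNoetherian X] (hdim : topologicalKrullDim X = 1)
    {E : X.Modules}
    (h : ∀ (F : X.Modules) (ι : F ⟶ E), Coh.IsCoh F → ∀ O : X.Opens, (O : Set X).Nonempty →
      (∀ y ∈ O, Subsingleton (F.presheaf.stalk y)) → ι = 0) :
    _root_.ShStab.IsPure X E 1 := by
  intro F ι hι hF h0
  by_cases hall : CohB1.support F = Set.univ
  · rw [hall, IsHomeomorph.topologicalKrullDim_eq _ (Homeomorph.Set.univ X).isHomeomorph]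
    simpa using hdim
  · exfalso
    have hcl := Groth.L16.CohGab.isClosed_support hF
    have hι0 := h F ι hF ⟨(CohB1.support F)ᶜ, hcl.isOpen_compl⟩ (Set.nonempty_compl.2 hall)
      fun y hy => by
        by_contra hne
        exact hy hne
    exact h0 ((IsZero.iff_id_eq_zero _).2 ((cancel_mono ι).1 (by rw [hι0, CategoryTheory.Limits.comp_zero, CategoryTheory.Limits.zero_comp])))

variable {k : Type u} [Field k] [IsAlgClosed k] [X.Over (Spec (CommRingCat.of k))]
  [IsProper (X ↘ Spec (CommRingCat.of k))] [Y.Over (Spec (CommRingCat.of k))]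
  (π : Y ⟶ X) [IsFinite π] (hπ : π ≫ (X ↘ Spec (CommRingCat.of k)) = Y ↘ Spec (CommRingCat.of k))

include hπ in
theorem isHilbPoly_push_iff {L : X.Modules} (hL : PicF.IsInvertible L) {G : Y.Modules} (hG : Coh.IsCoh G)
    {P : ℚ[X]} :
    _root_.ShStab.IsHilbPoly k X L ((Scheme.Modules.pushforward π).obj G) P ↔
      _root_.ShStab.IsHilbPoly k Y ((Scheme.Modules.pullback π).obj L) G P := by
  haveI : X.IsSeparated := ⟨by rw [← terminal.comp_from (X ↘ Spec (CommRingCat.of k))]; infer_instance⟩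
  haveI := Groth.L03.ShStab.Basic.locallyNoetherian (k := k) (X := X)
  haveI : IsLocallyNoetherian Y := LocallyOfFiniteType.isLocallyNoetherian π
  refine forall_congr' fun m => ?_
  have hN := Groth.L18.Ample.isInvertible_tensorPow hL m
  let N := CohB1.tensorPow L m
  let e : CohB1.tensorMod ((Coh.push π).obj G) N ≅
      (Coh.push π).obj (CohB1.tensorMod G (CohB1.tensorPow ((Scheme.Modules.pullback π).obj L) m)) :=
    Groth.L00.Tensor.tensorComm _ N ≪≫
      (Groth.L17.ProjFormula.projIso π N (Groth.L16.Existence.isFinLocFree_of_isInvertible hN)).app G ≪≫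
      (Coh.push π).mapIso (Groth.L00.Tensor.tensorComm _ G ≪≫
        Groth.L00.Tensor.tensorIso (Iso.refl G) (Groth.L18.Ample.pullPow π L m))
  have hq : Coh.IsQCoh (CohB1.tensorMod G (CohB1.tensorPow ((Scheme.Modules.pullback π).obj L) m)) :=
    (Groth.L03.Euler.isCoh_tensor (Groth.L18.Ample.isInvertible_tensorPow
      (Groth.L18.Ample.isInvertible_pullback π hL) m) hG).1
  show (Curv2.euler k X (CohB1.tensorMod _ N) : ℚ) = _ ↔ _
  rw [Groth.L03.Euler.euler_iso (k := k) e, Groth.L03.Euler.euler_push π _ hq hπ]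
  rfl

variable [IsIntegral X] [IsIntegral Y] {U : X.Opens} [IsIso (π ∣_ U)]

include hπ in
theorem isPure_push (hdim : topologicalKrullDim X = 1) (hU : ((π ⁻¹ᵁ U : Y.Opens) : Set Y).Nonempty)
    {E : Y.Modules} [Coh.IsQCoh E] (hE : TorSh.IsTorsionFree E) :
    _root_.ShStab.IsPure X ((Scheme.Modules.pushforward π).obj E) 1 := by
  haveI := Groth.L03.ShStab.Basic.locallyNoetherian (k := k) (X := X)
  haveI : IsLocallyNoetherian Y := LocallyOfFiniteType.isLocallyNoetherian π
  haveI := Groth.L21.RR.isNoetherian_of_proper (X := X) k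
  refine isPure_of_injective hdim fun F ι hF O hO hzero => ?_
  let adj := Scheme.Modules.pullbackPushforwardAdjunction π
  refine (adj.homEquiv F E).symm.injective ?_
  have hz : ∀ f : (Scheme.Modules.pullback π).obj F ⟶ E, f = 0 := fun f => by
    have hne : ((π ⁻¹ᵁ (O ⊓ U) : Y.Opens) : Set Y).Nonempty := by
      have hgen : genericPoint X ∈ O ⊓ U := by
        obtain ⟨y, hy⟩ := hU
        exact ⟨((genericPoint_spec X).mem_open_set_iff O.2).2 ⟨hO.some, trivial, hO.some_mem⟩,
          ((genericPoint_spec X).mem_open_set_iff U.2).2 ⟨π y, trivial, hy⟩⟩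
      obtain ⟨z, hz⟩ := ((π ∣_ U).homeomorph).surjective ⟨genericPoint X, hgen.2⟩
      have hzU : π z.1 = genericPoint X :=
        (morphismRestrict_base_coe π U z).symm.trans (congrArg Subtype.val hz)
      exact ⟨z.1, show π z.1 ∈ O ⊓ U by rw [hzU]; exact hgen⟩
    refine Groth.L21.TFNodal.eq_zero_of_stalk_dense hE f _ ((π ⁻¹ᵁ (O ⊓ U)).2.dense hne) fun y hy v => ?_
    letI := Groth.L15.TFCurve.BC.alg π y
    haveI := hzero (π y) hy.1
    haveI : Subsingleton (((Scheme.Modules.pullback π).obj F).presheaf.stalk y) :=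
      (Groth.L15.TFCurve.BC.pe π y F).toEquiv.subsingleton
    rw [show v = 0 from @Subsingleton.elim (((Scheme.Modules.pullback π).obj F).presheaf.stalk y) _ v 0, map_zero]
  rw [hz ((adj.homEquiv F E).symm ι), hz ((adj.homEquiv F E).symm 0)]

theorem isPure_of_torsionFree (hdim : topologicalKrullDim Y = 1) [AlgebraicGeometry.IsNoetherian Y] {E : Y.Modules}
    [Coh.IsQCoh E] (hE : TorSh.IsTorsionFree E) : _root_.ShStab.IsPure Y E 1 :=
  isPure_of_injective hdim fun F ι hF O hO hzero =>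
    Groth.L21.TFNodal.eq_zero_of_stalk_dense hE ι O (O.2.dense hO) fun y hy v => by
      haveI := hzero y hy
      rw [show v = 0 from @Subsingleton.elim (F.presheaf.stalk y) _ v 0, map_zero]

include hπ in
/-- The comparison of submodules: `F ⊆ π_*E₁` with finite cokernel. -/
theorem exists_saturation (hdim : topologicalKrullDim X = 1) (hU : (U : Set X).Nonempty)
    {L : X.Modules} (hL : CohB1.IsAmple L) {E : Y.Modules} (hE : Coh.IsCoh E)
    (hpure : _root_.ShStab.IsPure X ((Scheme.Modules.pushforward π).obj E) 1)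
    {F : X.Modules} (ι : F ⟶ (Scheme.Modules.pushforward π).obj E) [Mono ι] (hF : Coh.IsCoh F)
    (h0 : ¬ IsZero F) {pF : ℚ[X]} (hpF : _root_.ShStab.IsHilbPoly k X L F pF) :
    ∃ (E₁ : Y.Modules) (ι₁ : E₁ ⟶ E) (p pC : ℚ[X]), Mono ι₁ ∧ Coh.IsCoh E₁ ∧ ¬ IsZero E₁ ∧
      _root_.ShStab.IsHilbPoly k Y ((Scheme.Modules.pullback π).obj L) E₁ p ∧ p = pF + pC ∧
      0 ≤ pC.leadingCoeff ∧ alpha 1 pC = 0 ∧ 0 < alpha 1 p ∧ (IsIso ι₁ → ¬ IsIso ι → 0 < pC.leadingCoeff) := by
  haveI := Groth.L03.ShStab.Basic.locallyNoetherian (k := k) (X := X)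
  haveI : IsLocallyNoetherian Y := LocallyOfFiniteType.isLocallyNoetherian π
  haveI := Groth.L21.RR.isNoetherian_of_proper (X := X) k
  haveI : Coh.IsQCoh F := hF.1
  haveI : Coh.IsQCoh E := hE.1
  haveI : Coh.IsQCoh ((Scheme.Modules.pullback π).obj F) := Groth.L16.AffineBC.isQCoh_pullback π F
  let adj := Scheme.Modules.pullbackPushforwardAdjunction π
  let g := (adj.homEquiv F E).symm ι
  let p₁ := Abelian.factorThruImage g
  let ι₁ := Abelian.image.ι g
  have hE₁ : Coh.IsCoh (Abelian.image g) := (Groth.L16.CohKernel.isCoh_kernel_cokernel hE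
    (Groth.L16.CohKernel.isCoh_kernel_cokernel (Groth.L16.AffineBC.isCoh_pullback (f := π) hF) hE g).2
    (cokernel.π g)).1
  haveI : Coh.IsQCoh (Abelian.image g) := hE₁.1
  let β : F ⟶ (Scheme.Modules.pushforward π).obj (Abelian.image g) :=
    adj.unit.app F ≫ (Scheme.Modules.pushforward π).map p₁
  have hβ : β ≫ (Scheme.Modules.pushforward π).map ι₁ = ι := by
    rw [Category.assoc, ← Functor.map_comp, Abelian.image.fac]
    exact (adj.homEquiv_unit F E g).symm.trans ((adj.homEquiv F E).apply_symm_apply ι)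
  haveI : Mono β := mono_of_mono_fac hβ
  haveI : (Scheme.Modules.pushforward π).IsRightAdjoint := adj.isRightAdjoint
  haveI : Mono ((Scheme.Modules.pushforward π).map ι₁) := inferInstance
  have hPc := Groth.L07.PrinParts.isCoh_pushforward_finite π hE₁
  have hC := (Groth.L16.CohKernel.isCoh_kernel_cokernel hF hPc β).2
  have hgen := Groth.L21.TFNodal.generates_comp (π := π) p₁
  have hsupp : CohB1.support (cokernel β) ⊆ (U : Set X)ᶜ := fun x hx hxU =>
    hx (Groth.L21.TFNodal.subsingleton_coker_stalk β (surjective_stalk_of_iso π β hgen hxU))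
  have hfin : (CohB1.support (cokernel β)).Finite := by
    haveI := Groth.L21.RR.isNoetherian_of_proper (X := X) k
    refine (Groth.L21.TFNodal.Lat.finite_of_closed_points U.2.isClosed_compl fun y hy => ?_).subset hsupp
    by_contra hc
    exact hy (Groth.L21.RR.mem_of_dense_of_not_isClosed hdim.le (U.2.dense hU) hc)
  have hC0 : topologicalKrullDim (CohB1.support (cokernel β)) ≤ (0 : ℕ) := by
    haveI := hfin.to_subtype
    haveI : DiscreteTopology (CohB1.support (cokernel β)) := by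
      haveI : T1Space (CohB1.support (cokernel β)) := t1Space_iff_specializes_imp_eq.2 fun a b hab => by
        refine Subtype.ext ?_
        have hb : IsClosed ({(a : X)} : Set X) := by
          by_contra hc
          exact hsupp a.2 (Groth.L21.RR.mem_of_dense_of_not_isClosed hdim.le (U.2.dense hU) hc)
        exact ((hab.map continuous_subtype_val).mem_closed hb rfl).symm
      infer_instance
    exact (topologicalKrullDim_zero_of_discreteTopology (CohB1.support (cokernel β))).trans (by simp)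
  obtain ⟨pC, hpC⟩ := exists_hilb (k := k) hL.1 hC hC0
  have hP : _root_.ShStab.IsHilbPoly k X L ((Scheme.Modules.pushforward π).obj (Abelian.image g)) (pF + pC) :=
    Groth.L03.Euler.isHilbPoly_add hL.1 (S := ShortComplex.mk β (cokernel.π β) (cokernel.condition β))
      { exact := ShortComplex.exact_cokernel β } hF hPc hC hpF hpC
  have hne : ¬ IsZero ((Scheme.Modules.pushforward π).obj (Abelian.image g)) := fun hz =>
    h0 (hz.of_mono β)
  refine ⟨_, ι₁, pF + pC, pC, inferInstance, hE₁, fun hz => hne (Functor.map_isZero _ hz),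
    (isHilbPoly_push_iff π hπ hL.1 hE₁).1 hP, rfl, nonneg_leadingCoeff hL hC hC0 hpC, ?_, ?_, fun hi hni => ?_⟩
  · rw [PolyOrd.alpha_eq_zero_iff]
    exact coeff_eq_zero_of_natDegree_lt (lt_of_le_of_lt (natDegree_le hL.1 hC hC0 hpC) one_pos)
  · exact alpha_pos_sub hL hpure ((Scheme.Modules.pushforward π).map ι₁) hPc hne hP
  · refine leadingCoeff_pos hL hC (fun hz => hni ?_) hC0 hpC
    haveI : Epi β := Abelian.epi_of_cokernel_π_eq_zero _ (hz.eq_of_tgt _ _)
    haveI := isIso_of_mono_of_epi β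
    rw [← hβ]
    infer_instance

include hπ in
/-- Semistability along the map. -/
theorem semistable_stable_iff (hdim : topologicalKrullDim X = 1) (hdimY : topologicalKrullDim Y = 1)
    (hU : ((π ⁻¹ᵁ U : Y.Opens) : Set Y).Nonempty) [IsProper (Y ↘ Spec (CommRingCat.of k))] {L : X.Modules}
    (hL : CohB1.IsAmple L) {E : Y.Modules} {n : ℕ} (hE : FlatMod.IsFinLocFreeOfRank n E) :
    (_root_.ShStab.IsSemistable k Y ((Scheme.Modules.pullback π).obj L) E 1 ↔
      _root_.ShStab.IsSemistable k X L ((Scheme.Modules.pushforward π).obj E) 1) ∧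
    (_root_.ShStab.IsStable k Y ((Scheme.Modules.pullback π).obj L) E 1 ↔
      _root_.ShStab.IsStable k X L ((Scheme.Modules.pushforward π).obj E) 1) := by
  haveI := Groth.L03.ShStab.Basic.locallyNoetherian (k := k) (X := X)
  haveI : IsLocallyNoetherian Y := LocallyOfFiniteType.isLocallyNoetherian π
  have htf := Groth.L21.TFNodal.isTorsionFree_of_rank hE
  haveI : Coh.IsQCoh E := Groth.L21.TFNodal.isQCoh_of_rank hE
  have hEc : Coh.IsCoh E := Groth.L16.NegPow.isCoh_of_isFinLocFree (Groth.L22.CurveDeg.isFinLocFree_of_rank hE)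
  have hLY : CohB1.IsAmple ((Scheme.Modules.pullback π).obj L) := Groth.L18.Ample.isAmple_pullback_of_isAffineHom π hL
  haveI := Groth.L21.RR.isNoetherian_of_proper (X := Y) k
  have hpY := isPure_of_torsionFree hdimY htf
  have hpX := isPure_push π hπ hdim hU htf
  have hpc := Groth.L07.PrinParts.isCoh_pushforward_finite π hEc
  let adj := Scheme.Modules.pullbackPushforwardAdjunction π
  haveI : (Scheme.Modules.pushforward π).IsRightAdjoint := adj.isRightAdjoint
  have hdX : ∀ M : X.Modules, topologicalKrullDim (CohB1.support M) ≤ (1 : ℕ) := fun M =>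
    dim_univ_le.trans (by simp [hdim])
  have hdY : ∀ M : Y.Modules, topologicalKrullDim (CohB1.support M) ≤ (1 : ℕ) := fun M =>
    dim_univ_le.trans (by simp [hdimY])
  have hzero : ∀ M : Y.Modules, Coh.IsCoh M → IsZero ((Scheme.Modules.pushforward π).obj M) → IsZero M :=
    fun M hM hz => isZero_of_hilb_eq_zero hLY hM (hdY M)
      ((isHilbPoly_push_iff π hπ hL.1 hM).1 (Groth.L03.Euler.isHilbPoly_zero hL.1 hz))
  have hne : ¬ IsZero E ↔ ¬ IsZero ((Scheme.Modules.pushforward π).obj E) :=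
    ⟨fun h hz => h (hzero E hEc hz), fun h hz => h (Functor.map_isZero _ hz)⟩
  obtain ⟨pE, hpE⟩ := exists_hilb (k := k) hLY.1 hEc (hdY E)
  have hpE' := (isHilbPoly_push_iff π hπ hL.1 hEc).2 hpE
  have hup : ∀ {F : X.Modules} (ι : F ⟶ (Scheme.Modules.pushforward π).obj E), Mono ι → Coh.IsCoh F →
      ¬ IsZero F → ¬ IsIso ι → ∀ pF, _root_.ShStab.IsHilbPoly k X L F pF →
      (StabCat.IsSS Coh.IsCoh (_root_.ShStab.IsHilbPoly k Y ((Scheme.Modules.pullback π).obj L)) 1 E → RedLE 1 pF pE) ∧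
      (StabCat.IsSt Coh.IsCoh (_root_.ShStab.IsHilbPoly k Y ((Scheme.Modules.pullback π).obj L)) 1 E → RedLT 1 pF pE) := by
    intro F ι hι hF h0 hni pF hpF
    haveI := hι
    haveI := hπ
    obtain ⟨U', hU'⟩ : ∃ y, π y ∈ U := hU
    obtain ⟨E₁, ι₁, p, pC, hι₁, hE₁, h1, hp, hpeq, hC, hCα, hpα, hstrict⟩ :=
      exists_saturation π hπ (U := U) hdim ⟨_, hU'⟩ hL hEc hpX ι hF h0 hpF
    have hEα : 0 < alpha 1 pE :=
      alpha_pos hLY hEc (hpY E (𝟙 E) inferInstance hEc fun hz => h1 (hz.of_mono ι₁)) hpE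
    have hαF : alpha 1 pF = alpha 1 p := by rw [hpeq, PolyOrd.alpha_add, hCα, add_zero]
    have hle : PolyLE (alpha 1 pE • pF) (alpha 1 pE • p) := PolyOrd.polyLE_iff.2 (by
      rw [hpeq, smul_add, add_sub_cancel_left, leadingCoeff_smul_of_smul_regular _ (IsSMulRegular.of_ne_zero hEα.ne')]
      exact smul_nonneg hEα.le hC)
    by_cases hi : IsIso ι₁
    · have hpp : p = pE := Groth.L03.Euler.isHilbPoly_unique
        (Groth.L03.Euler.isHilbPoly_iso (asIso ι₁) hp) hpE
      subst hpp
      refine ⟨fun _ => ?_, fun _ => ?_⟩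
      · show PolyLE _ _
        rw [hαF]; exact hle
      · show PolyLT _ _
        rw [hαF, PolyOrd.polyLT_iff, hpeq, smul_add, add_sub_cancel_left,
          leadingCoeff_smul_of_smul_regular _ (IsSMulRegular.of_ne_zero (by rw [← hpeq]; exact hEα.ne'))]
        exact smul_pos (by rw [← hpeq]; exact hEα) (hstrict hi hni)
    · refine ⟨fun hss => ?_, fun hst => ?_⟩
      · show PolyLE _ _
        rw [hαF]
        exact PolyOrd.polyLE_trans hle (hss E₁ ι₁ hι₁ hE₁ h1 hi p pE hp hpE)
      · show PolyLT _ _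
        rw [hαF]
        exact PolyOrd.polyLT_of_le_of_lt hle (hst E₁ ι₁ hι₁ hE₁ h1 hi p pE hp hpE)
  have hdown : ∀ {F : Y.Modules} (ι : F ⟶ E), Mono ι → Coh.IsCoh F → ¬ IsZero F → ¬ IsIso ι →
      Mono ((Scheme.Modules.pushforward π).map ι) ∧ ¬ IsIso ((Scheme.Modules.pushforward π).map ι) := by
    intro F ι hι hF h0 hni
    haveI := hι
    refine ⟨inferInstance, fun hi => hni ?_⟩
    haveI := hi
    obtain ⟨pF, hpF⟩ := exists_hilb (k := k) hLY.1 hF (hdY F)
    have e := Groth.L03.Euler.isHilbPoly_unique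
      (Groth.L03.Euler.isHilbPoly_iso (asIso ((Scheme.Modules.pushforward π).map ι))
        ((isHilbPoly_push_iff π hπ hL.1 hF).2 hpF)) hpE'
    have hQ := (Groth.L16.CohKernel.isCoh_kernel_cokernel hF hEc ι).2
    obtain ⟨pQ, hpQ⟩ := exists_hilb (k := k) hLY.1 hQ (hdY _)
    have e2 := hilb_cokernel hLY hF hEc ι hpF hpE hpQ
    rw [e] at e2
    obtain rfl : pQ = 0 := by simpa using e2
    haveI : Epi ι := Abelian.epi_of_cokernel_π_eq_zero _
      ((isZero_of_hilb_eq_zero hLY hQ (hdY _) hpQ).eq_of_tgt _ _)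
    exact isIso_of_mono_of_epi ι
  constructor
  · constructor
    · rintro ⟨-, h2, -, h4⟩
      refine ⟨hpc, hne.1 h2, hpX, fun F ι hι hF h0 hni pF pE' hpF hpE'' => ?_⟩
      rw [Groth.L03.Euler.isHilbPoly_unique hpE'' hpE']
      exact (hup ι hι hF h0 hni pF hpF).1 h4
    · rintro ⟨-, h2, -, h4⟩
      refine ⟨hEc, hne.2 h2, hpY, fun F ι hι hF h0 hni pF pE' hpF hpE'' => ?_⟩
      obtain ⟨hm, hni'⟩ := hdown ι hι hF h0 hni
      exact h4 _ _ hm (Groth.L07.PrinParts.isCoh_pushforward_finite π hF) (fun hz => h0 (hzero F hF hz)) hni' pF pE'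
        ((isHilbPoly_push_iff π hπ hL.1 hF).2 hpF) ((isHilbPoly_push_iff π hπ hL.1 hEc).2 hpE'')
  · constructor
    · rintro ⟨-, h2, -, h4⟩
      refine ⟨hpc, hne.1 h2, hpX, fun F ι hι hF h0 hni pF pE' hpF hpE'' => ?_⟩
      rw [Groth.L03.Euler.isHilbPoly_unique hpE'' hpE']
      exact (hup ι hι hF h0 hni pF hpF).2 h4
    · rintro ⟨-, h2, -, h4⟩
      refine ⟨hEc, hne.2 h2, hpY, fun F ι hι hF h0 hni pF pE' hpF hpE'' => ?_⟩
      obtain ⟨hm, hni'⟩ := hdown ι hι hF h0 hni
      exact h4 _ _ hm (Groth.L07.PrinParts.isCoh_pushforward_finite π hF) (fun hz => h0 (hzero F hF hz)) hni' pF pE'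
        ((isHilbPoly_push_iff π hπ hL.1 hF).2 hpF) ((isHilbPoly_push_iff π hπ hL.1 hEc).2 hpE'')

end Groth.L21.PushStab
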