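import Groth.Agent.L21.PushStab.Main
import Groth.Agent.S1585
import Groth.Agent.L12.GenusZero.Deg
import Groth.Agent.L19.IntegralHom

/-!
Stability along the normalisation of an integral curve.
-/

set_option autoImplicit false
set_option backward.isDefEq.respectTransparency false
set_option linter.style.haveILetI false

universe u

open CategoryTheory CategoryTheory.Limits AlgebraicGeometry

noncomputable section

namespace Groth.L21.PushStab

theorem normalization_iff (k : Type u) [Field k] [IsAlgClosed k] (X : Scheme.{u})
    [X.Over (Spec (CommRingCat.of k))] [IsIntegral X] [IsProper (X ↘ Spec (CommRingCat.of k))]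
    (hdim : topologicalKrullDim X = 1) [QuasiCompact (X.fromSpecStalk (genericPoint X))]
    [QuasiSeparated (X.fromSpecStalk (genericPoint X))] {L : X.Modules} (hL : CohB1.IsAmple L) {n : ℕ}
    {E : (Curv2.normalization X).Modules} (hE : FlatMod.IsFinLocFreeOfRank n E) :
    letI : (Curv2.normalization X).Over (Spec (CommRingCat.of k)) := ⟨Curv2.normalizationι X ≫ X ↘ Spec (CommRingCat.of k)⟩
    (ShStab.IsSemistable k (Curv2.normalization X) ((Scheme.Modules.pullback (Curv2.normalizationι X)).obj L) E 1 ↔
      ShStab.IsSemistable k X L ((Coh.push (Curv2.normalizationι X)).obj E) 1) ∧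
    (ShStab.IsStable k (Curv2.normalization X) ((Scheme.Modules.pullback (Curv2.normalizationι X)).obj L) E 1 ↔
      ShStab.IsStable k X L ((Coh.push (Curv2.normalizationι X)).obj E) 1) := by
  obtain ⟨hfin, hdom, ⟨W, hW, hWi⟩, hint, -⟩ := Groth.Agent.S1585.result k X
  haveI := hfin; haveI := hdom; haveI := hint; haveI := hWi
  letI : (Curv2.normalization X).Over (Spec (CommRingCat.of k)) :=
    ⟨Curv2.normalizationι X ≫ X ↘ Spec (CommRingCat.of k)⟩
  let ν := Curv2.normalizationι X
  haveI : IsProper (Curv2.normalization X ↘ Spec (CommRingCat.of k)) :=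
    inferInstanceAs (IsProper (ν ≫ (X ↘ Spec (CommRingCat.of k))))
  have hsurj : Function.Surjective ν := fun x => by
    have h := ν.denseRange.closure_range
    rw [(ν.isClosedMap.isClosed_range).closure_eq] at h
    exact h.ge (Set.mem_univ x)
  have hdimY : topologicalKrullDim ↥(Curv2.normalization X) = 1 := by
    refine Groth.L12.GenusZero.dim_eq_one_of_not_isClosed
      ((Groth.L19.topologicalKrullDim_le_of_isIntegralHom ν).trans hdim.le) fun hcl => ?_
    haveI : Subsingleton X := ⟨fun a b => by
      obtain ⟨a', rfl⟩ := hsurj a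
      obtain ⟨b', rfl⟩ := hsurj b
      rw [(genericPoint_specializes a').mem_closed hcl rfl, (genericPoint_specializes b').mem_closed hcl rfl]⟩
    haveI : DiscreteTopology X := Subsingleton.discreteTopology
    have h1 := topologicalKrullDim_zero_of_discreteTopology X
    rw [hdim] at h1
    exact absurd h1 (by decide)
  obtain ⟨w, hw⟩ := hW
  obtain ⟨y, hy⟩ := hsurj w
  exact semistable_stable_iff ν rfl (U := W) hdim hdimY ⟨y, show ν y ∈ W from hy ▸ hw⟩ hL hE

end Groth.L21.PushStab
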